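import Groth.Agent.Lib.FiniteNhd12.Basic
import Mathlib.AlgebraicGeometry.Noetherian

/-!
# Affine neighbourhoods of generic points
-/

universe u

open CategoryTheory AlgebraicGeometry Topology
open Groth.Agent.FiniteNhd12

namespace Groth.Agent.Easy12

variable (X : Scheme.{u})

/-- A point without generalisations is not in the closure of a quasi-compact open missing it. -/
theorem not_mem_closure_of_isMin [QuasiSeparatedSpace X] {V : X.Opens} (hV : IsCompact (V : Set X))
    {v : X} (hv : ∀ v', v' ⤳ v → v' = v) (hvV : v ∉ V) : v ∉ closure (V : Set X) := by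
  have : QuasiCompact V.ι := ⟨fun W hW hW' => by
    rw [V.ι.isEmbedding.isInducing.isCompact_iff, Set.image_preimage_eq_inter_range, V.range_ι]
    exact QuasiSeparatedSpace.inter_isCompact _ _ hW hW' V.isOpen hV⟩
  intro h
  obtain ⟨z, hz⟩ := AlgSpDecent.exists_specializes_of_mem_closure_range V.ι (V.range_ι.symm ▸ h)
  exact hvV (hv _ hz ▸ z.2)

/-- Pairwise disjoint affine neighbourhoods of distinct points without generalisations, inside given
neighbourhoods. -/
theorem exists_disjoint_affine [QuasiSeparatedSpace X] {ι : Type*} [Finite ι] (η : ι → X)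
    (hη : ∀ i v, v ⤳ η i → v = η i) (hinj : Function.Injective η) :
    ∃ U : ι → X.Opens, (∀ i, IsAffineOpen (U i) ∧ η i ∈ U i) ∧
      ∀ i j, i ≠ j → Disjoint (U i) (U j) := by
  classical
  have h1 : ∀ i, ∃ V : X.Opens, IsAffineOpen V ∧ η i ∈ V ∧ ∀ j, j ≠ i → η j ∉ V := by
    intro i
    have hc : IsClosed (⋃ j ∈ {j | j ≠ i}, closure {η j}) :=
      (Set.toFinite _).isClosed_biUnion fun _ _ => isClosed_closure
    obtain ⟨V, hV, hiV, hsub⟩ := exists_isAffineOpen_mem_and_subset (X := X) (x := η i)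
      (U := ⟨_, hc.isOpen_compl⟩) (fun h => by
        obtain ⟨j, hj, hji⟩ := Set.mem_iUnion₂.1 h
        exact hj (hinj (hη i _ (specializes_iff_mem_closure.2 hji))))
    exact ⟨V, hV, hiV, fun j hj hjV => hsub hjV (Set.mem_biUnion hj (subset_closure rfl))⟩
  choose V hV hiV hjV using h1
  have h2 : ∀ i, ∃ U : X.Opens, IsAffineOpen U ∧ η i ∈ U ∧ U ≤ V i ∧
      ∀ j, j ≠ i → Disjoint (U : Set X) (V j : Set X) := by
    intro i
    have hc : IsClosed (⋃ j ∈ {j | j ≠ i}, closure (V j : Set X)) :=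
      (Set.toFinite _).isClosed_biUnion fun _ _ => isClosed_closure
    obtain ⟨U, hU, hiU, hsub⟩ := exists_isAffineOpen_mem_and_subset (X := X) (x := η i)
      (U := V i ⊓ ⟨_, hc.isOpen_compl⟩) ⟨hiV i, fun h => by
        obtain ⟨j, hj, hji⟩ := Set.mem_iUnion₂.1 h
        exact not_mem_closure_of_isMin X (hV j).isCompact (hη i) (hjV j i fun e => hj e.symm) hji⟩
    refine ⟨U, hU, hiU, fun x hx => (hsub hx).1, fun j hj => Set.disjoint_left.2 fun x hx hxj => ?_⟩
    exact (hsub hx).2 (Set.mem_biUnion hj (subset_closure hxj))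
  choose U hU hiU hUV hdis using h2
  refine ⟨U, fun i => ⟨hU i, hiU i⟩, fun i j hij => ?_⟩
  rw [disjoint_iff, eq_bot_iff]
  exact fun x hx => Set.disjoint_left.1 (hdis i j fun e => hij e.symm) hx.1 (hUV j hx.2)

/-- An affine open containing a given point and finitely many points without generalisations. -/
theorem exists_affine_containing [QuasiSeparatedSpace X] {ι : Type*} [Finite ι] (η : ι → X)
    (hη : ∀ i v, v ⤳ η i → v = η i) (x : X) :
    ∃ U : X.Opens, IsAffineOpen U ∧ x ∈ U ∧ ∀ i, η i ∈ U := by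
  classical
  obtain ⟨W, hW, hxW, -⟩ := exists_isAffineOpen_mem_and_subset (X := X) (x := x) (U := ⊤) trivial
  let s : Set X := Set.range η \ W
  have hs : s.Finite := (Set.finite_range η).subset Set.sdiff_subset
  have : Finite s := hs
  obtain ⟨U, hU, hdis⟩ := exists_disjoint_affine X (Subtype.val : s → X)
    (fun i => by obtain ⟨_, ⟨k, rfl⟩, -⟩ := i; exact hη k) Subtype.val_injective
  choose U' hU' hiU' hsub using fun i : s => exists_isAffineOpen_mem_and_subset (X := X) (x := i.1)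
    (U := U i ⊓ ⟨_, (isClosed_closure (s := (W : Set X))).isOpen_compl⟩) ⟨(hU i).2,
      not_mem_closure_of_isMin X hW.isCompact (v := i.1)
        (by obtain ⟨_, ⟨k, rfl⟩, -⟩ := i; exact hη k) i.2.2⟩
  have hA : IsAffineOpen (⨆ i : s, U' i) := IsAffineOpen.iSup_of_disjoint hU' fun i j hij => by
    rw [Function.onFun, disjoint_iff, eq_bot_iff]
    exact fun z hz => (disjoint_iff.1 (hdis i j hij)).le ⟨(hsub i hz.1).1, (hsub j hz.2).1⟩
  refine ⟨W ⊔ ⨆ i : s, U' i, hW.sup_of_disjoint hA ?_, Or.inl hxW, fun i => ?_⟩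
  · rw [disjoint_iff, eq_bot_iff]
    rintro z ⟨hzW, hz⟩
    obtain ⟨j, hj⟩ := TopologicalSpace.Opens.mem_iSup.1 hz
    exact (hsub j hj).2 (subset_closure hzW)
  · by_cases h : η i ∈ W
    · exact Or.inl h
    · exact Or.inr (TopologicalSpace.Opens.mem_iSup.2 ⟨⟨η i, ⟨i, rfl⟩, h⟩, hiU' _⟩)

/-- Local finiteness of irreducible components passes to sources of generalising maps with finite
fibres. -/
theorem locallyFinite_components {X Y : Scheme.{u}} (f : X ⟶ Y)
    (hY : ∀ y : Y, ∃ U : Set ↥Y, IsOpen U ∧ y ∈ U ∧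
      {Z ∈ irreducibleComponents ↥Y | (Z ∩ U).Nonempty}.Finite)
    (hf : GeneralizingMap ⇑f) (hfin : ∀ y : Y, (⇑f ⁻¹' {y}).Finite) (x : X) :
    ∃ U : Set ↥X, IsOpen U ∧ x ∈ U ∧ {T ∈ irreducibleComponents ↥X | (T ∩ U).Nonempty}.Finite := by
  obtain ⟨U, hU, hxU, hfinU⟩ := hY (f x)
  refine ⟨f ⁻¹' U, hU.preimage f.continuous, hxU, ?_⟩
  let G : Set ↥Y := {y | closure {y} ∈ irreducibleComponents ↥Y ∧ y ∈ U}
  have hG : G.Finite := by
    refine Set.Finite.of_finite_image (f := fun y => closure {y}) (hfinU.subset ?_) ?_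
    · rintro _ ⟨y, hy, rfl⟩
      exact ⟨hy.1, y, subset_closure rfl, hy.2⟩
    · intro a _ b _ h
      exact (IsGenericPoint.eq (show IsGenericPoint a (closure {b}) from h) rfl)
  refine (((hG.biUnion fun y _ => hfin y)).image fun z => closure {z}).subset ?_
  rintro T ⟨hT, z, hzT, hzU⟩
  let ξ := genericPoints.ofComponent (α := ↥X) ⟨T, hT⟩
  have hξ : closure {ξ.1} = T := (genericPoints.isGenericPoint_ofComponent _).def
  refine ⟨ξ.1, Set.mem_biUnion (x := f ξ.1) ⟨?_, ?_⟩ rfl, hξ⟩
  · let c : irreducibleComponents ↥Y :=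
      ⟨irreducibleComponent (f ξ.1), irreducibleComponent_mem_irreducibleComponents _⟩
    let g := genericPoints.ofComponent c
    have hg : g.1 ⤳ f ξ.1 := specializes_iff_mem_closure.2
      ((genericPoints.isGenericPoint_ofComponent c).def.symm ▸ mem_irreducibleComponent)
    obtain ⟨w, hw, hwg⟩ := hf hg
    have : w = ξ.1 := eq_of_specializes_of_component ξ.2 hw
    rw [← this, hwg]
    exact g.2
  · have hzξ : ξ.1 ⤳ z := specializes_iff_mem_closure.2 (hξ.symm ▸ hzT)
    exact (hzξ.map f.continuous).mem_open hU hzU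

/-- A Noetherian scheme with domains as local rings has open, disjoint irreducible components. -/
theorem components_of_isDomain_stalk [AlgebraicGeometry.IsNoetherian X]
    (hX : ∀ x : X, IsDomain (X.presheaf.stalk x)) :
    (∀ Z ∈ irreducibleComponents (X : Type u), IsOpen Z) ∧
      ∀ x : X, ∃! Z, Z ∈ irreducibleComponents (X : Type u) ∧ x ∈ Z := by
  have key : ∀ x : X, ∀ (Z : Set ↥X) (hZ : Z ∈ irreducibleComponents (X : Type u)), x ∈ Z →
      (genericPoints.ofComponent (α := ↥X) ⟨Z, hZ⟩).1 =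
        (X.fromSpecStalk x) (⟨⊥, Ideal.isPrime_bot⟩ : PrimeSpectrum (X.presheaf.stalk x)) := by
    intro x Z hZ hxZ
    let ξ := genericPoints.ofComponent (α := ↥X) ⟨Z, hZ⟩
    have hξx : ξ.1 ⤳ x := specializes_iff_mem_closure.2
      ((genericPoints.isGenericPoint_ofComponent (⟨Z, hZ⟩ : irreducibleComponents ↥X)).def.symm ▸ hxZ)
    obtain ⟨p, hp⟩ : ξ.1 ∈ Set.range (X.fromSpecStalk x) := by
      rw [Scheme.range_fromSpecStalk]; exact hξx
    exact (eq_of_specializes_of_component ξ.2 (hp ▸ ((PrimeSpectrum.le_iff_specializes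
      (⟨⊥, Ideal.isPrime_bot⟩ : PrimeSpectrum (X.presheaf.stalk x)) p).1 bot_le).map
        (X.fromSpecStalk x).continuous)).symm
  have huniq : ∀ x : X, ∀ Z ∈ irreducibleComponents (X : Type u),
      ∀ Z' ∈ irreducibleComponents (X : Type u), x ∈ Z → x ∈ Z' → Z = Z' := by
    intro x Z hZ Z' hZ' hx hx'
    have h := (key x Z hZ hx).trans (key x Z' hZ' hx').symm
    have e1 := (genericPoints.isGenericPoint_ofComponent (⟨Z, hZ⟩ : irreducibleComponents ↥X)).def
    have e2 := (genericPoints.isGenericPoint_ofComponent (⟨Z', hZ'⟩ : irreducibleComponents ↥X)).def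
    simp only at e1 e2
    rw [← e1, ← e2]
    exact congrArg (fun a => closure {a}) h
  refine ⟨fun Z hZ => ?_, fun x => ⟨irreducibleComponent x,
    ⟨irreducibleComponent_mem_irreducibleComponents x, mem_irreducibleComponent⟩,
    fun Z' hZ' => huniq x Z' hZ'.1 _ (irreducibleComponent_mem_irreducibleComponents x) hZ'.2
      mem_irreducibleComponent⟩⟩
  have heq : Zᶜ = ⋃ T ∈ irreducibleComponents (X : Type u) \ {Z}, T := by
    ext x
    refine ⟨fun hx => Set.mem_biUnion ⟨irreducibleComponent_mem_irreducibleComponents x, fun e =>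
      hx ((Set.mem_singleton_iff.1 e) ▸ mem_irreducibleComponent)⟩ mem_irreducibleComponent, ?_⟩
    intro hx hxZ
    obtain ⟨T, ⟨hT, hne⟩, hxT⟩ := Set.mem_iUnion₂.1 hx
    exact hne (huniq x T hT Z hZ hxT hxZ)
  rw [← isClosed_compl_iff, heq]
  exact ((TopologicalSpace.NoetherianSpace.finite_irreducibleComponents (α := ↥X)).subset
    Set.sdiff_subset).isClosed_biUnion fun T hT => isClosed_of_mem_irreducibleComponents T hT.1

end Groth.Agent.Easy12
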